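import Cfsg.Agent.Lib.Breadth.State

/-!
The breadth invariant for groups of class at most two: grow a central subgroup `N` of the derived
subgroup one commutator image at a time.
-/

set_option autoImplicit false
set_option linter.unusedSectionVars false

namespace CfsgLib.Breadth

open scoped commutatorElement

variable {G : Type*} [Group G]

/-- The elements whose commutator with `g` lies in `N`, when those commutators are central. -/
def comPre (g : G) (N : Subgroup G) (h : ∀ w : G, ⁅g, w⁆ ∈ Subgroup.center G) : Subgroup G where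
  carrier := {x | ⁅g, x⁆ ∈ N}
  one_mem' := by
    show ⁅g, (1 : G)⁆ ∈ N
    rw [commutatorElement_one_right]
    exact N.one_mem
  mul_mem' := fun {a b} ha hb => by
    show ⁅g, a * b⁆ ∈ N
    rw [comm_mul_right g a b (h b)]
    exact N.mul_mem ha hb
  inv_mem' := fun {a} ha => by
    show ⁅g, a⁻¹⁆ ∈ N
    have e := comm_mul_right g a a⁻¹ (h a⁻¹)
    rw [mul_inv_cancel, commutatorElement_one_right] at e
    rw [eq_inv_of_mul_eq_one_right e.symm]
    exact N.inv_mem ha

theorem mem_comPre {g x : G} {N : Subgroup G} {h : ∀ w : G, ⁅g, w⁆ ∈ Subgroup.center G} :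
    x ∈ comPre g N h ↔ ⁅g, x⁆ ∈ N := Iff.rfl

variable [Finite G] {p b : ℕ} [hp : Fact p.Prime]

theorem comm_mem_commutator (a c : G) : ⁅a, c⁆ ∈ commutator G :=
  Subgroup.commutator_mem_commutator (Subgroup.mem_top _) (Subgroup.mem_top _)

/-- One step of the base induction. -/
theorem base_step (hG : IsPGroup p G) (hb : ∀ v : G, (cz v).index ≤ p ^ b)
    (hc : commutator G ≤ Subgroup.center G) {N : Subgroup G} (hN : N ≤ commutator G)
    (hne : N ≠ commutator G) (hS : StateOn p b N) :
    ∃ N' : Subgroup G, N' ≤ commutator G ∧ N < N' ∧ StateOn p b N' := by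
  have hcen : ∀ a c : G, ⁅a, c⁆ ∈ Subgroup.center G := fun a c => hc (comm_mem_commutator a c)
  obtain ⟨L, m, H, hH, hL, hineq, hcov⟩ := hS
  -- Λ has commutators in N
  have hLam : ∀ l ∈ Lam L, ∀ w : G, ⁅w, l⁆ ∈ N := by
    intro l hl w
    refine mem_comPre.mp (Lam_le (S := comPre w N (hcen w)) (fun g hg => ?_) ?_ hl)
    · rw [mem_comPre, ← commutatorElement_inv]
      exact N.inv_mem (hL g hg w)
    · intro z hz
      rw [mem_comPre, commutatorElement_eq_one_iff_mul_comm.mpr
        (Subgroup.mem_center_iff.mp (hc hz) w)]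
      exact N.one_mem
  obtain ⟨x, hx, y, hxy⟩ : ∃ x, x ∉ H ∧ ∃ y, ⁅x, y⁆ ∉ N := by
    by_contra hcon
    push_neg at hcon
    refine hne (le_antisymm hN ?_)
    rw [commutator_def, Subgroup.commutator_le]
    intro h _ w _
    obtain ⟨x, -, hx⟩ := SetLike.exists_of_lt hH.lt_top
    by_cases hh : h ∈ H
    · have h1 := hcon (h * x) (fun hmem => hx ((H.mul_mem_cancel_left hh).mp hmem)) w
      rw [comm_mul_left h x w (hcen x w)] at h1
      exact (N.mul_mem_cancel_left (hcon x hx w)).mp h1
    · exact hcon h hh w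
  obtain ⟨l, hl, hm⟩ := hcov x hx
  set g := x * l with hg
  have hgy : ⁅g, y⁆ ∉ N := by
    intro h
    rw [hg, comm_mul_left x l y (hcen l y)] at h
    refine hxy ((N.mul_mem_cancel_left ?_).mp h)
    rw [← commutatorElement_inv]
    exact N.inv_mem (hLam l hl y)
  set I := (comHom g ⊤ fun w _ => hcen g w).range with hI
  have hIc : I ≤ Subgroup.center G := range_comHom_le_center _ _ _
  have hIcard : Nat.card I = (cz g).index := by
    rw [hI, card_range_comHom, Subgroup.relIndex_top_right]
  have hyI : ⁅g, y⁆ ∈ I := mem_range_comHom.mpr ⟨y, trivial, rfl⟩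
  have hIG : I ≤ commutator G := by
    intro z hz
    obtain ⟨w, -, rfl⟩ := mem_range_comHom.mp hz
    exact comm_mem_commutator g w
  have hNc : N ≤ Subgroup.center G := hN.trans hc
  have hcap : p ^ m ≤ Nat.card (N ⊓ I : Subgroup G) := by
    refine hm.trans ?_
    rw [← card_range_comHom g (Lam L) fun w _ => hcen g w]
    refine Subgroup.card_le_of_le fun z hz => ?_
    obtain ⟨w, hw, rfl⟩ := mem_range_comHom.mp hz
    exact ⟨hLam w hw g, mem_range_comHom.mpr ⟨w, trivial, rfl⟩⟩
  have hlt : N ⊓ I < I := lt_of_le_of_ne inf_le_right fun he => hgy (he.symm.le hyI).1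
  have hmb : m < b := by
    have h1 : p * p ^ m ≤ p ^ b :=
      ((Nat.mul_le_mul_left _ hcap).trans (mul_card_le_of_lt hG hlt)).trans (hIcard.le.trans (hb g))
    rw [← pow_succ'] at h1
    exact (Nat.pow_le_pow_iff_right hp.out.one_lt).mp h1
  refine ⟨N ⊔ I, sup_le hN hIG,
    lt_of_le_of_ne le_sup_left fun he => hgy (he.symm.le (Subgroup.mem_sup_right hyI)),
    g :: L, m + 1, comPre g N (hcen g), fun he => hgy (mem_comPre.mp (he ▸ Subgroup.mem_top y)),
    ?_, ?_, ?_⟩
  · intro k hk w
    rcases List.mem_cons.mp hk with rfl | hk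
    · exact Subgroup.mem_sup_right (mem_range_comHom.mpr ⟨w, trivial, rfl⟩)
    · exact Subgroup.mem_sup_left (hL k hk w)
  · rw [List.map_cons, List.prod_cons, List.length_cons,
      show b * (L.length + 1) = b + b * L.length by ring, pow_add, mul_left_comm _ (cz g).index]
    refine ineq_cons hineq ?_
    rw [tri_sub_one hmb, pow_add, ← hIcard]
    calc Nat.card (N ⊔ I : Subgroup G) * p ^ tri (b - (m + 1)) * p ^ b
        = Nat.card (N ⊔ I : Subgroup G) * p ^ m * (p ^ tri (b - (m + 1)) * p ^ (b - m)) := by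
          rw [show p ^ b = p ^ m * p ^ (b - m) by rw [← pow_add]; congr 1; omega]; ring
      _ ≤ Nat.card N * Nat.card I * (p ^ tri (b - (m + 1)) * p ^ (b - m)) := by
          refine Nat.mul_le_mul_right _ ?_
          rw [← card_sup_mul_inf hNc I]
          exact Nat.mul_le_mul_left _ hcap
      _ = _ := by ring
  · intro x' hx'
    have hle : Lam (g :: L) ≤ comPre g N (hcen g) := by
      refine Lam_le (fun k hk => ?_) fun z hz => ?_
      · rw [mem_comPre]
        rcases List.mem_cons.mp hk with rfl | hk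
        · rw [commutatorElement_self]
          exact N.one_mem
        · exact hLam k (mem_Lam hk) g
      · exact hLam z (commutator_le_Lam L hz) g
    obtain ⟨u, hu, hxu⟩ : ∃ u ∈ Lam (g :: L), x' * u ∉ H := by
      by_cases hxH : x' ∈ H
      · refine ⟨x, ?_, fun hmem => hx ((H.mul_mem_cancel_left hxH).mp hmem)⟩
        have e : x = g * l⁻¹ := by rw [hg, mul_inv_cancel_right]
        rw [e]
        exact mul_mem (mem_Lam List.mem_cons_self) (inv_mem (Lam_le_cons g L hl))
      · exact ⟨1, one_mem _, by rwa [mul_one]⟩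
    obtain ⟨l', hl', hm'⟩ := hcov (x' * u) hxu
    refine ⟨u * l', mul_mem hu (Lam_le_cons g L hl'), ?_⟩
    rw [← mul_assoc]
    set v := x' * u * l' with hv
    have hgv : v ∉ comPre g N (hcen g) := fun h => hx' (by
      have e : x' = v * (u * l')⁻¹ := by rw [hv]; group
      rw [e]
      exact mul_mem h (inv_mem (mul_mem (hle hu) (hle (Lam_le_cons g L hl')))))
    rw [← card_range_comHom v (Lam L) fun w _ => hcen v w] at hm'
    rw [← card_range_comHom v (Lam (g :: L)) fun w _ => hcen v w, pow_succ']
    refine (Nat.mul_le_mul_left _ hm').trans (mul_card_le_of_lt hG ?_)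
    refine lt_of_le_of_ne (fun z hz => ?_) fun he => hgv ?_
    · obtain ⟨w, hw, rfl⟩ := mem_range_comHom.mp hz
      exact mem_range_comHom.mpr ⟨w, Lam_le_cons g L hw, rfl⟩
    · have h1 : ⁅v, g⁆ ∈ (comHom v (Lam L) fun w _ => hcen v w).range :=
        he.symm.le (mem_range_comHom.mpr ⟨g, mem_Lam List.mem_cons_self, rfl⟩)
      obtain ⟨w, hw, hwe⟩ := mem_range_comHom.mp h1
      rw [mem_comPre, ← commutatorElement_inv, ← hwe]
      exact N.inv_mem (hLam w hw v)

/-- Groups of class at most two satisfy the invariant. -/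
theorem base [Nontrivial G] (hG : IsPGroup p G) (hb : ∀ v : G, (cz v).index ≤ p ^ b)
    (hc : commutator G ≤ Subgroup.center G) : StateOn p b (commutator G) := by
  have h0 : StateOn p b (⊥ : Subgroup G) := by
    refine ⟨[], 0, ⊥, bot_ne_top, by simp, by simp, fun x _ => ⟨1, one_mem _, ?_⟩⟩
    rw [pow_zero]
    exact Nat.one_le_iff_ne_zero.mpr Subgroup.index_ne_zero_of_finite
  have : ∀ k : ℕ, ∀ N : Subgroup G, N ≤ commutator G → StateOn p b N →
      Nat.card (commutator G) ≤ Nat.card N + k → StateOn p b (commutator G) := by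
    intro k
    induction k with
    | zero =>
      intro N hN hS hk
      rwa [← Subgroup.eq_of_le_of_card_ge hN (by omega)]
    | succ k ih =>
      intro N hN hS hk
      by_cases hne : N = commutator G
      · rwa [← hne]
      obtain ⟨N', hN', hlt, hS'⟩ := base_step hG hb hc hN hne hS
      refine ih N' hN' hS' ?_
      have : Nat.card N < Nat.card N' := by
        refine lt_of_le_of_ne (Subgroup.card_le_of_le hlt.le) fun he => hlt.ne ?_
        exact Subgroup.eq_of_le_of_card_ge hlt.le he.ge
      omega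
  exact this (Nat.card (commutator G)) ⊥ bot_le h0 (by omega)

end CfsgLib.Breadth
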