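import Mathlib

/-!
Commutator images for the breadth theorem of finite p-groups: if `⁅v, ·⁆` takes central values on a
subgroup `K`, its image is a subgroup of order the index of the centralizer of `v` in `K`.
-/

set_option autoImplicit false

namespace CfsgLib.Breadth

open scoped commutatorElement

variable {G : Type*} [Group G]

/-- The centralizer of one element. -/
abbrev cz (v : G) : Subgroup G := Subgroup.centralizer ({v} : Set G)

theorem mem_cz {v w : G} : w ∈ cz v ↔ ⁅v, w⁆ = 1 := by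
  rw [Subgroup.mem_centralizer_singleton_iff, commutatorElement_eq_one_iff_mul_comm]
  exact ⟨Eq.symm, Eq.symm⟩

theorem comm_mul_right (v a b : G) (hb : ⁅v, b⁆ ∈ Subgroup.center G) :
    ⁅v, a * b⁆ = ⁅v, a⁆ * ⁅v, b⁆ := by
  have h := Subgroup.mem_center_iff.mp hb a
  calc ⁅v, a * b⁆ = ⁅v, a⁆ * (a * ⁅v, b⁆ * a⁻¹) := by simp only [commutatorElement_def]; group
    _ = ⁅v, a⁆ * ⁅v, b⁆ := by rw [h, mul_inv_cancel_right]

theorem comm_mul_left (a b w : G) (hb : ⁅b, w⁆ ∈ Subgroup.center G) :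
    ⁅a * b, w⁆ = ⁅b, w⁆ * ⁅a, w⁆ := by
  have h := Subgroup.mem_center_iff.mp hb a
  calc ⁅a * b, w⁆ = (a * ⁅b, w⁆ * a⁻¹) * ⁅a, w⁆ := by simp only [commutatorElement_def]; group
    _ = ⁅b, w⁆ * ⁅a, w⁆ := by rw [h, mul_inv_cancel_right]

/-- `w ↦ ⁅v, w⁆` on a subgroup where its values are central. -/
def comHom (v : G) (K : Subgroup G) (h : ∀ w ∈ K, ⁅v, w⁆ ∈ Subgroup.center G) : K →* G where
  toFun w := ⁅v, (w : G)⁆
  map_one' := by simp
  map_mul' a b := comm_mul_right v a b (h b b.2)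

theorem mem_range_comHom {v : G} {K : Subgroup G} {h : ∀ w ∈ K, ⁅v, w⁆ ∈ Subgroup.center G} {z : G} :
    z ∈ (comHom v K h).range ↔ ∃ w ∈ K, ⁅v, w⁆ = z := by
  constructor
  · rintro ⟨⟨w, hw⟩, rfl⟩
    exact ⟨w, hw, rfl⟩
  · rintro ⟨w, hw, rfl⟩
    exact ⟨⟨w, hw⟩, rfl⟩

theorem card_range_comHom (v : G) (K : Subgroup G) (h : ∀ w ∈ K, ⁅v, w⁆ ∈ Subgroup.center G) :
    Nat.card (comHom v K h).range = (cz v).relIndex K := by
  rw [← Subgroup.index_ker]
  show _ = ((cz v).subgroupOf K).index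
  congr 1
  ext w
  rw [MonoidHom.mem_ker, Subgroup.mem_subgroupOf, mem_cz]
  rfl

theorem range_comHom_le_center (v : G) (K : Subgroup G)
    (h : ∀ w ∈ K, ⁅v, w⁆ ∈ Subgroup.center G) : (comHom v K h).range ≤ Subgroup.center G := by
  intro z hz
  obtain ⟨w, hw, rfl⟩ := mem_range_comHom.mp hz
  exact h w hw

theorem normal_of_le_center {A : Subgroup G} (hA : A ≤ Subgroup.center G) : A.Normal :=
  ⟨fun a ha g => by rwa [Subgroup.mem_center_iff.mp (hA ha) g, mul_inv_cancel_right]⟩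

variable [Finite G]

theorem card_sup_eq {A : Subgroup G} (hA : A ≤ Subgroup.center G) (B : Subgroup G) :
    Nat.card (A ⊔ B : Subgroup G) = Nat.card A * A.relIndex B := by
  haveI := normal_of_le_center hA
  have h := Subgroup.relIndex_mul_relIndex (⊥ : Subgroup G) A (A ⊔ B) bot_le le_sup_left
  rw [Subgroup.relIndex_bot_left, Subgroup.relIndex_bot_left, Subgroup.relIndex_sup_left] at h
  exact h.symm

theorem card_sup_mul_inf {A : Subgroup G} (hA : A ≤ Subgroup.center G) (B : Subgroup G) :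
    Nat.card (A ⊔ B : Subgroup G) * Nat.card (A ⊓ B : Subgroup G) = Nat.card A * Nat.card B := by
  have h := Subgroup.relIndex_mul_relIndex (⊥ : Subgroup G) (A ⊓ B) B bot_le inf_le_right
  rw [Subgroup.relIndex_bot_left, Subgroup.relIndex_bot_left, Subgroup.inf_relIndex_right] at h
  rw [card_sup_eq hA B, ← h]
  ring

theorem card_sup_le {A : Subgroup G} (hA : A ≤ Subgroup.center G) (B : Subgroup G) :
    Nat.card (A ⊔ B : Subgroup G) ≤ Nat.card A * Nat.card B := by
  rw [← card_sup_mul_inf hA B]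
  exact Nat.le_mul_of_pos_right _ Nat.card_pos

variable {p : ℕ} [hp : Fact p.Prime]

theorem prime_le_card (hG : IsPGroup p G) {A : Subgroup G} {z : G} (hz : z ∈ A) (h1 : z ≠ 1) :
    p ≤ Nat.card A := by
  obtain ⟨n, hn⟩ := IsPGroup.iff_card.mp (hG.to_subgroup A)
  rcases Nat.eq_zero_or_pos n with h | h
  · subst h
    rw [pow_zero] at hn
    have hbot := Subgroup.card_eq_one.mp hn
    rw [hbot, Subgroup.mem_bot] at hz
    exact absurd hz h1
  · rw [hn]
    exact Nat.le_self_pow h.ne' p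

theorem mul_card_le_of_lt (hG : IsPGroup p G) {A B : Subgroup G} (h : A < B) :
    p * Nat.card A ≤ Nat.card B := by
  obtain ⟨i, hi⟩ := IsPGroup.iff_card.mp (hG.to_subgroup A)
  obtain ⟨j, hj⟩ := IsPGroup.iff_card.mp (hG.to_subgroup B)
  have h1 : Nat.card A < Nat.card B := by
    refine lt_of_le_of_ne (Subgroup.card_le_of_le h.le) fun he => h.ne ?_
    exact Subgroup.eq_of_le_of_card_ge h.le he.ge
  rw [hi, hj] at h1 ⊢
  rw [← pow_succ']
  exact Nat.pow_le_pow_right hp.out.pos ((Nat.pow_lt_pow_iff_right hp.out.one_lt).mp h1)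

theorem relIndex_le_index (H K : Subgroup G) : H.relIndex K ≤ H.index := by
  rw [← Subgroup.relIndex_top_right H]
  exact Subgroup.relIndex_le_of_le_right le_top (by
    rw [Subgroup.relIndex_top_right]; exact Subgroup.index_ne_zero_of_finite)

theorem exists_notMem_union {A B : Subgroup G} (hA : A ≠ ⊤) (hB : B ≠ ⊤) :
    ∃ g : G, g ∉ A ∧ g ∉ B := by
  obtain ⟨a, -, ha⟩ := SetLike.exists_of_lt hA.lt_top
  obtain ⟨b, -, hb⟩ := SetLike.exists_of_lt hB.lt_top
  by_cases haB : a ∈ B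
  · by_cases hbA : b ∈ A
    · refine ⟨a * b, fun h => ha ?_, fun h => hb ?_⟩
      · exact (A.mul_mem_cancel_right hbA).mp h
      · exact (B.mul_mem_cancel_left haB).mp h
    · exact ⟨b, hbA, hb⟩
  · exact ⟨a, ha, haB⟩

end CfsgLib.Breadth
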