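import Cfsg.Agent.Lib.Breadth.Stage
import Cfsg.Agent.Lib.PGroups.Basic

/-!
The breadth theorem: a finite `p`-group whose centralizers have index at most `p ^ b` has derived
subgroup of order at most `p ^ (b (b + 1) / 2)`.
-/

set_option autoImplicit false

namespace CfsgLib.Breadth

open scoped commutatorElement

universe u

theorem state_commutator {p b : ℕ} [hp : Fact p.Prime] :
    ∀ (n : ℕ) (G : Type u) [Group G] [Finite G] [Nontrivial G], Nat.card G = n → IsPGroup p G →
      (∀ v : G, (cz v).index ≤ p ^ b) → StateOn p b (commutator G) := by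
  intro n
  induction n using Nat.strong_induction_on with
  | _ n ih =>
    intro G _ _ _ hn hG hb
    by_cases hc : commutator G ≤ Subgroup.center G
    · exact base hG hb hc
    -- an element of the derived subgroup of order `p` modulo the centre and central there
    set π := QuotientGroup.mk' (Subgroup.center G)
    obtain ⟨g0, hg0, hg0c⟩ := SetLike.not_le_iff_exists.mp hc
    set N := (commutator G).map π with hN
    haveI : N.Normal := Subgroup.Normal.map inferInstance π (QuotientGroup.mk'_surjective _)
    have hNbot : N ≠ ⊥ := by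
      intro h
      refine hg0c ?_
      have h1 : π g0 ∈ N := Subgroup.mem_map_of_mem π hg0
      rw [h, Subgroup.mem_bot] at h1
      exact (QuotientGroup.eq_one_iff g0).mp h1
    have hQ : IsPGroup p (G ⧸ Subgroup.center G) := hG.to_quotient _
    set A := (N ⊓ Subgroup.center (G ⧸ Subgroup.center G) : Subgroup _) with hA
    haveI hnt : Nontrivial A :=
      (Subgroup.nontrivial_iff_ne_bot A).mpr (CfsgLib.PGroups.inf_center_ne_bot hQ hNbot)
    obtain ⟨k, hk⟩ := IsPGroup.iff_card.mp (hQ.to_subgroup A)
    have hdvd : p ∣ Nat.card A := by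
      rw [hk]
      refine dvd_pow_self p fun h => ?_
      subst h
      rw [pow_zero] at hk
      exact absurd hk (Finite.one_lt_card.ne')
    obtain ⟨⟨q, hqN, hqc⟩, hq⟩ := exists_prime_orderOf_dvd_card' p hdvd
    rw [← Subgroup.orderOf_coe] at hq
    change orderOf q = p at hq
    obtain ⟨y, hyc, rfl⟩ := hqN
    have hy : ∀ g : G, ⁅y, g⁆ ∈ Subgroup.center G := fun g => by
      rw [← QuotientGroup.eq_one_iff, ← QuotientGroup.mk'_apply, map_commutatorElement,
        commutatorElement_eq_one_iff_mul_comm]
      exact (Subgroup.mem_center_iff.mp hqc _).symm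
    have hyp : y ^ p ∈ Subgroup.center G := by
      rw [← QuotientGroup.eq_one_iff, ← QuotientGroup.mk'_apply, map_pow, ← hq]
      exact pow_orderOf_eq_one _
    have hyZ : y ∉ Subgroup.center G := fun h => by
      rw [show π y = 1 from (QuotientGroup.eq_one_iff y).mpr h, orderOf_one] at hq
      exact hp.out.one_lt.ne hq
    set D := (phi y hy).range with hD
    have hDc : D ≤ Subgroup.center G := phi_range_le_center
    haveI : D.Normal := normal_of_le_center hDc
    have hDbot : D ≠ ⊥ := fun h => hyZ <| Subgroup.mem_center_iff.mpr fun g => by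
      have h1 : ⁅y, g⁆ ∈ D := ⟨g, rfl⟩
      rw [h, Subgroup.mem_bot, commutatorElement_eq_one_iff_mul_comm] at h1
      exact h1.symm
    haveI : Nontrivial (G ⧸ D) := by
      rw [← Finite.one_lt_card_iff_nontrivial, ← Subgroup.index_eq_card]
      exact Subgroup.one_lt_index_of_ne_top fun h => hyZ (hDc (h.symm ▸ Subgroup.mem_top y))
    have hlt : Nat.card (G ⧸ D) < n := by
      rw [← hn, Subgroup.card_eq_card_quotient_mul_card_subgroup D]
      exact lt_mul_of_one_lt_right Nat.card_pos ((Subgroup.one_lt_card_iff_ne_bot D).mpr hDbot)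
    refine stage hG hb hy hyc hyp (QuotientGroup.mk' D) (QuotientGroup.mk'_surjective D)
      (QuotientGroup.ker_mk' D) (ih _ hlt (G ⧸ D) rfl (hG.to_quotient D) fun v => ?_)
    obtain ⟨w, rfl⟩ := QuotientGroup.mk'_surjective D v
    refine le_trans (le_of_eq ?_) ((Nat.le_of_dvd (Nat.pos_of_ne_zero
      Subgroup.index_ne_zero_of_finite) (Subgroup.index_dvd_of_le (cz_le_kq (QuotientGroup.mk' D) w))).trans (hb w))
    exact (Subgroup.index_comap_of_surjective _ (QuotientGroup.mk'_surjective D)).symm

/-- Vaughan-Lee's bound. -/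
theorem card_commutator_le {G : Type u} [Group G] [Finite G] {p : ℕ} [Fact p.Prime]
    (hG : IsPGroup p G) (b : ℕ) (hb : ∀ x : G, (cz x).index ≤ p ^ b) :
    Nat.card (commutator G) ≤ p ^ (b * (b + 1) / 2) := by
  rw [← tri_eq]
  rcases subsingleton_or_nontrivial G with h | h
  · rw [Nat.card_of_subsingleton (1 : commutator G)]
    exact Nat.one_le_pow _ _ (Fact.out : p.Prime).pos
  · exact bound_of_state hb (state_commutator _ G rfl hG hb)

end CfsgLib.Breadth
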