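import Cfsg.Agent.Lib.Breadth.Base

/-!
The inductive step of the breadth theorem: pull the invariant back along the quotient by the central
subgroup `⁅y, G⁆`, where `y` is an element of the derived subgroup that is central modulo the centre.
-/

set_option autoImplicit false
set_option linter.unusedSectionVars false

namespace CfsgLib.Breadth

open scoped commutatorElement

universe u

variable {G : Type u} [Group G]

theorem comm_pow_left (y g : G) (hy : ⁅y, g⁆ ∈ Subgroup.center G) :
    ∀ n : ℕ, ⁅y ^ n, g⁆ = ⁅y, g⁆ ^ n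
  | 0 => by rw [pow_zero, pow_zero, commutatorElement_one_left]
  | n + 1 => by rw [pow_succ, comm_mul_left (y ^ n) y g hy, comm_pow_left y g hy n, pow_succ']

/-- `g ↦ ⁅y, g⁆` for an element `y` whose commutators are central. -/
def phi (y : G) (hy : ∀ g : G, ⁅y, g⁆ ∈ Subgroup.center G) : G →* G where
  toFun g := ⁅y, g⁆
  map_one' := commutatorElement_one_right _
  map_mul' a c := comm_mul_right y a c (hy c)

section

variable {y : G} {hy : ∀ g : G, ⁅y, g⁆ ∈ Subgroup.center G}

theorem phi_apply (g : G) : phi y hy g = ⁅y, g⁆ := rfl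

theorem phi_range_le_center : (phi y hy).range ≤ Subgroup.center G := by
  rintro _ ⟨g, rfl⟩
  exact hy g

theorem commutator_le_ker_phi : commutator G ≤ (phi y hy).ker := by
  rw [commutator_def, Subgroup.commutator_le]
  intro a _ c _
  rw [MonoidHom.mem_ker, map_commutatorElement, commutatorElement_eq_one_iff_mul_comm]
  exact (Subgroup.mem_center_iff.mp (hy a) _).symm

end

variable {Q : Type u} [Group Q]

/-- The preimage of the centralizer of `f u`. -/
abbrev kq (f : G →* Q) (u : G) : Subgroup G := (cz (f u)).comap f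

theorem mem_kq {f : G →* Q} {u w : G} : w ∈ kq f u ↔ ⁅u, w⁆ ∈ f.ker := by
  rw [Subgroup.mem_comap, mem_cz, MonoidHom.mem_ker, map_commutatorElement]

theorem cz_le_kq (f : G →* Q) (u : G) : cz u ≤ kq f u := fun w hw => by
  rw [mem_kq, mem_cz.mp hw]
  exact one_mem _

theorem relIndex_split {C K : Subgroup G} (h : C ≤ K) (S : Subgroup G) :
    C.relIndex S = C.relIndex (K ⊓ S) * K.relIndex S := by
  have h1 := Subgroup.relIndex_mul_relIndex (C ⊓ S) (K ⊓ S) S (inf_le_inf_right S h) inf_le_right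
  rw [Subgroup.inf_relIndex_right, Subgroup.inf_relIndex_right] at h1
  rw [← h1, ← Subgroup.inf_relIndex_right C (K ⊓ S), ← Subgroup.inf_relIndex_right (C ⊓ S) (K ⊓ S),
    inf_assoc, inf_eq_right.mpr (inf_le_right : K ⊓ S ≤ S)]

theorem Lam_map_eq {f : G →* Q} (hf : Function.Surjective f) (hker : f.ker ≤ commutator G)
    (L : List G) : Lam L = (Lam (L.map f)).comap f := by
  have h : (Lam L).map f = Lam (L.map f) := by
    rw [Lam, Lam, Subgroup.map_sup, MonoidHom.map_closure, commutator_def, Subgroup.map_commutator,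
      Subgroup.map_top_of_surjective f hf, ← commutator_def]
    congr 2
    ext q
    simp
  rw [← h, Subgroup.comap_map_eq_self (hker.trans (commutator_le_Lam L))]

variable [Finite G] {p b : ℕ} [hp : Fact p.Prime]

theorem relIndex_eq_pow (hG : IsPGroup p G) (A B : Subgroup G) :
    ∃ i, A.relIndex B = p ^ i := by
  obtain ⟨n, hn⟩ := IsPGroup.iff_card.mp (hG.to_subgroup B)
  obtain ⟨i, -, hi⟩ := (Nat.dvd_prime_pow hp.out).mp (hn ▸ Subgroup.relIndex_dvd_card A B)
  exact ⟨i, hi⟩

theorem mul_relIndex_le_of_lt (hG : IsPGroup p G) {A B B' : Subgroup G}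
    (h : A.relIndex B < A.relIndex B') : p * A.relIndex B ≤ A.relIndex B' := by
  obtain ⟨i, hi⟩ := relIndex_eq_pow hG A B
  obtain ⟨j, hj⟩ := relIndex_eq_pow hG A B'
  rw [hi, hj] at h ⊢
  rw [← pow_succ']
  exact Nat.pow_le_pow_right hp.out.pos ((Nat.pow_lt_pow_iff_right hp.out.one_lt).mp h)

theorem card_range_le_mul_index {M : Type*} [Group M] (φ : G →* M) [Finite M] (S : Subgroup G) :
    Nat.card φ.range ≤ Nat.card (S.map φ) * S.index := by
  have h := Subgroup.relIndex_mul_relIndex (⊥ : Subgroup M) (S.map φ) φ.range bot_le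
    (Subgroup.map_le_range φ S)
  rw [Subgroup.relIndex_bot_left, Subgroup.relIndex_bot_left] at h
  rw [← h]
  refine Nat.mul_le_mul_left _ ?_
  rw [MonoidHom.range_eq_map, Subgroup.relIndex_map_map, top_sup_eq, Subgroup.relIndex_top_right]
  exact Nat.le_of_dvd (Nat.pos_of_ne_zero Subgroup.index_ne_zero_of_finite)
    (Subgroup.index_dvd_of_le le_sup_left)

/-- The inductive step. -/
theorem stage [Finite Q] (hG : IsPGroup p G) (hb : ∀ v : G, (cz v).index ≤ p ^ b)
    {y : G} (hy : ∀ g : G, ⁅y, g⁆ ∈ Subgroup.center G) (hyc : y ∈ commutator G)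
    (hyp : y ^ p ∈ Subgroup.center G) (f : G →* Q) (hf : Function.Surjective f)
    (hker : f.ker = (phi y hy).range) (hS : StateOn p b (commutator Q)) :
    StateOn p b (commutator G) := by
  set φ := phi y hy with hφ
  set D := φ.range with hD
  have hDc : D ≤ Subgroup.center G := phi_range_le_center
  have hpos : 0 < p := hp.out.pos
  have hpow : ∀ g : G, φ g ^ p = 1 := fun g => by
    rw [phi_apply, ← comm_pow_left y g (hy g) p, commutatorElement_eq_one_iff_mul_comm]
    exact (Subgroup.mem_center_iff.mp hyp g).symm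
  have hcard : ∀ g : G, Nat.card (Subgroup.zpowers (φ g)) ≤ p := fun g => by
    rw [Nat.card_zpowers]
    exact Nat.le_of_dvd hpos (orderOf_dvd_of_pow_eq_one (hpow g))
  have hkG : f.ker ≤ commutator G := by
    rw [hker]
    rintro _ ⟨g, rfl⟩
    exact comm_mem_commutator y g
  have hkq : ∀ u w : G, w ∈ kq f u ↔ ⁅u, w⁆ ∈ D := fun u w => by rw [mem_kq, hker]
  have hcomy : ∀ u : G, ⁅u, y⁆ = (φ u)⁻¹ := fun u => (commutatorElement_inv y u).symm
  have hy_kq : ∀ u : G, y ∈ kq f u := fun u => by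
    rw [hkq, hcomy]
    exact D.inv_mem ⟨u, rfl⟩
  have hKc : ∀ (u : G) (S : Subgroup G), ∀ w ∈ kq f u ⊓ S, ⁅u, w⁆ ∈ Subgroup.center G :=
    fun u S w hw => hDc ((hkq u w).mp hw.1)
  have hKc' : ∀ (u : G), ∀ w ∈ kq f u, ⁅u, w⁆ ∈ Subgroup.center G :=
    fun u w hw => hDc ((hkq u w).mp hw)
  have hshift : ∀ u w : G, ⁅u * y, w⁆ = φ w * ⁅u, w⁆ := fun u w => comm_mul_left u y w (hy w)
  have hKy : ∀ u : G, kq f (u * y) = kq f u := fun u => by
    ext w
    rw [hkq, hkq, hshift]
    exact D.mul_mem_cancel_left ⟨w, rfl⟩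
  -- the lifted list
  obtain ⟨Lb, m, Hb, hHb, -, hineq, hcov⟩ := hS
  obtain ⟨L, rfl⟩ : ∃ L : List G, L.map f = Lb :=
    ⟨Lb.map (Function.surjInv hf), by
      rw [List.map_map]
      conv_rhs => rw [← List.map_id Lb]
      exact List.map_congr_left fun q _ => Function.surjInv_eq hf q⟩
  have hLam := Lam_map_eq hf hkG L
  set Λ := Lam L with hΛ
  set H := Hb.comap f with hHdef
  have hH : H ≠ ⊤ := fun he => hHb (by
    rw [← Subgroup.map_comap_eq_self_of_surjective hf Hb, ← hHdef, he,
      Subgroup.map_top_of_surjective f hf])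
  have hcovG : ∀ x ∉ H, ∃ l ∈ Λ, p ^ m ≤ (kq f (x * l)).relIndex Λ := by
    intro x hx
    obtain ⟨lb, hlb, hm⟩ := hcov (f x) hx
    obtain ⟨l, rfl⟩ := hf lb
    refine ⟨l, by rw [hLam]; exact hlb, ?_⟩
    rwa [kq, Subgroup.relIndex_comap, hLam, Subgroup.map_comap_eq_self_of_surjective hf, map_mul]
  -- the commutator image of the list
  set D0 := Λ.map φ with hD0def
  have hD0D : D0 ≤ D := Subgroup.map_le_range φ Λ
  have hD0 : Nat.card D0 ≤ (L.map fun u => (cz u).relIndex (kq f u)).prod := by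
    have : ∀ M : List G, Nat.card ((Lam M).map φ) ≤
        (M.map fun u => (cz u).relIndex (kq f u)).prod := by
      intro M
      induction M with
      | nil =>
        rw [List.map_nil, List.prod_nil, Subgroup.card_eq_one.mpr]
        rw [Subgroup.map_eq_bot_iff]
        exact (Lam_le (fun g hg => absurd hg List.not_mem_nil) le_rfl).trans commutator_le_ker_phi
      | cons v M ih =>
        rw [Lam_cons, Subgroup.map_sup, MonoidHom.map_zpowers, List.map_cons, List.prod_cons]
        refine (card_sup_le ?_ _).trans (Nat.mul_le_mul ?_ ih)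
        · exact Subgroup.zpowers_le.mpr (hy v)
        · rw [← card_range_comHom v (kq f v) (hKc' v)]
          refine Subgroup.card_le_of_le (Subgroup.zpowers_le.mpr ?_)
          rw [← inv_mem_iff, ← hcomy]
          exact mem_range_comHom.mpr ⟨y, hy_kq v, rfl⟩
    exact this L
  have hidx : ∀ u : G, (cz u).index = (cz (f u)).index * (cz u).relIndex (kq f u) := fun u => by
    rw [← Subgroup.relIndex_mul_index (cz_le_kq f u), Subgroup.index_comap_of_surjective _ hf,
      mul_comm]
  have hD0P : ((L.map f).map fun q => (cz q).index).prod * Nat.card D0 ≤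
      (L.map fun u => (cz u).index).prod := by
    rw [List.map_map, List.map_congr_left (fun u _ => hidx u), List.prod_map_mul]
    exact Nat.mul_le_mul_left _ hD0
  have hcardG : Nat.card (commutator G) = Nat.card D * Nat.card (commutator Q) := by
    have h := Subgroup.relIndex_mul_relIndex (⊥ : Subgroup G) f.ker (commutator G) bot_le hkG
    rw [Subgroup.relIndex_bot_left, Subgroup.relIndex_bot_left,
      ← MonoidHom.comap_bot, Subgroup.relIndex_comap, Subgroup.relIndex_bot_left,
      commutator_def, Subgroup.map_commutator, Subgroup.map_top_of_surjective f hf,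
      ← commutator_def, ← commutator_def, MonoidHom.comap_bot, hker] at h
    exact h.symm
  rw [List.length_map] at hineq
  have hA : Nat.card (commutator Q) * Nat.card D0 * p ^ tri (b - m) * p ^ (b * L.length) ≤
      p ^ tri b * (L.map fun u => (cz u).index).prod :=
    calc Nat.card (commutator Q) * Nat.card D0 * p ^ tri (b - m) * p ^ (b * L.length)
        = Nat.card (commutator Q) * p ^ tri (b - m) * p ^ (b * L.length) * Nat.card D0 := by ring
      _ ≤ p ^ tri b * ((L.map f).map fun q => (cz q).index).prod * Nat.card D0 :=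
        Nat.mul_le_mul_right _ hineq
      _ ≤ _ := by rw [mul_assoc]; exact Nat.mul_le_mul_left _ hD0P
  by_cases hDD : D0 = D
  · refine ⟨L, m, H, hH, fun l _ g => comm_mem_commutator l g, ?_, fun x hx => ?_⟩
    · rw [hcardG, mul_comm (Nat.card D), ← hDD]
      exact hA
    · obtain ⟨l, hl, hm⟩ := hcovG x hx
      exact ⟨l, hl, hm.trans (Nat.le_of_dvd (Nat.pos_of_ne_zero Subgroup.index_ne_zero_of_finite)
        (Subgroup.relIndex_dvd_of_le_left _ (cz_le_kq f _)))⟩
  -- choose the new element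
  obtain ⟨x0, hx0H, hx0D⟩ := exists_notMem_union hH (B := D0.comap φ) (fun he => hDD
    (le_antisymm hD0D (by rintro _ ⟨g, rfl⟩; exact (he.symm ▸ Subgroup.mem_top g : g ∈ D0.comap φ))))
  obtain ⟨l0, hl0, hm0⟩ := hcovG x0 hx0H
  set v := x0 * l0 with hvdef
  have hφv : φ v ∉ D0 := fun h => hx0D (by
    rw [hvdef, map_mul] at h
    exact Subgroup.mem_comap.mpr ((D0.mul_mem_cancel_right (Subgroup.mem_map_of_mem φ hl0)).mp h))
  set Λ1 := Lam (v :: L) with hΛ1
  have hΛΛ1 : Λ ≤ Λ1 := Lam_le_cons v L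
  have hx0Λ1 : x0 ∈ Λ1 := by
    have e : x0 = v * l0⁻¹ := by rw [hvdef, mul_inv_cancel_right]
    rw [e]
    exact mul_mem (mem_Lam List.mem_cons_self) (inv_mem (hΛΛ1 hl0))
  set E := D0 ⊔ Subgroup.zpowers (φ v) with hE
  have hΛ1E : Λ1.map φ ≤ E := by
    rw [hΛ1, Lam_cons, Subgroup.map_sup, MonoidHom.map_zpowers, hE, sup_comm]
  have hED : E ≤ D := sup_le hD0D (Subgroup.zpowers_le.mpr ⟨v, rfl⟩)
  set K := kq f v with hKdef
  set R := (comHom v K (hKc' v)).range with hR
  have hRv : ⁅v, y⁆ ∈ R := mem_range_comHom.mpr ⟨y, hy_kq v, rfl⟩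
  have hv1 : φ v ≠ 1 := fun h => hφv (h ▸ D0.one_mem)
  have hpR : p ≤ Nat.card R := prime_le_card hG hRv (by rw [hcomy]; exact inv_ne_one.mpr hv1)
  have hKidx : p ^ m ≤ K.index := hm0.trans (relIndex_le_index _ _)
  have hvidx : (cz v).index = K.index * Nat.card R := by
    rw [hR, card_range_comHom, ← Subgroup.relIndex_mul_index (cz_le_kq f v), mul_comm]
  -- the bound for `D`
  have hDle : Nat.card D * p ^ (m + 1) ≤ Nat.card D0 * Nat.card R * p ^ b := by
    have hK2 : ∀ w ∈ K, ⁅v * y, w⁆ ∈ Subgroup.center G := fun w hw =>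
      hKc' (v * y) w (by rw [hKy]; exact hw)
    set R' := (comHom (v * y) K hK2).range with hR'
    have hR'idx : K.index * Nat.card R' ≤ p ^ b := by
      rw [hR', card_range_comHom, mul_comm]
      refine le_trans ?_ (hb (v * y))
      rw [Subgroup.relIndex_mul_index ((cz_le_kq f (v * y)).trans (hKy v).le)]
    have hRv' : ⁅v, y⁆ ∈ R' := mem_range_comHom.mpr ⟨y, hy_kq v, by
      rw [hshift, phi_apply, commutatorElement_self, one_mul]⟩
    have hRR : Nat.card (R ⊔ R' : Subgroup G) * p ≤ Nat.card R * Nat.card R' := by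
      rw [← card_sup_mul_inf (range_comHom_le_center _ _ _) R']
      exact Nat.mul_le_mul_left _ (prime_le_card hG (z := ⁅v, y⁆) ⟨hRv, hRv'⟩
        (by rw [hcomy]; exact inv_ne_one.mpr hv1))
    have hSle : (K ⊔ Λ).map φ ≤ D0 ⊔ (R ⊔ R') := by
      rw [Subgroup.map_sup]
      refine sup_le ?_ le_sup_left
      rintro _ ⟨w, hw, rfl⟩
      have e : φ w = ⁅v * y, w⁆ * ⁅v, w⁆⁻¹ := by rw [hshift, mul_inv_cancel_right]
      rw [e]
      exact Subgroup.mem_sup_right (mul_mem
        (Subgroup.mem_sup_right (mem_range_comHom.mpr ⟨w, hw, rfl⟩))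
        (inv_mem (Subgroup.mem_sup_left (mem_range_comHom.mpr ⟨w, hw, rfl⟩))))
    have hSidx : (K ⊔ Λ).index * p ^ m ≤ K.index := by
      rw [← Subgroup.relIndex_mul_index (le_sup_left : K ≤ K ⊔ Λ), mul_comm]
      exact Nat.mul_le_mul_right _ (hm0.trans (Subgroup.relIndex_le_of_le_right le_sup_right
        Subgroup.index_ne_zero_of_finite))
    calc Nat.card D * p ^ (m + 1)
        ≤ Nat.card ((K ⊔ Λ).map φ) * (K ⊔ Λ).index * p ^ (m + 1) :=
          Nat.mul_le_mul_right _ (card_range_le_mul_index φ _)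
      _ = Nat.card ((K ⊔ Λ).map φ) * p * ((K ⊔ Λ).index * p ^ m) := by ring
      _ ≤ Nat.card D0 * (Nat.card R * Nat.card R') * K.index := by
          refine Nat.mul_le_mul ?_ hSidx
          refine (Nat.mul_le_mul_right p ((Subgroup.card_le_of_le hSle).trans
            (card_sup_le (hD0D.trans hDc) _))).trans ?_
          rw [mul_assoc]
          exact Nat.mul_le_mul_left _ hRR
      _ = Nat.card D0 * Nat.card R * (K.index * Nat.card R') := by ring
      _ ≤ _ := Nat.mul_le_mul_left _ hR'idx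
  -- shared part of the covering
  have hmove : ∀ x : G, ∃ l ∈ Λ1, p ^ m ≤ (kq f (x * l)).relIndex Λ := by
    intro x
    obtain ⟨u, hu, hxu⟩ : ∃ u ∈ Λ1, x * u ∉ H := by
      by_cases hxH : x ∈ H
      · exact ⟨x0, hx0Λ1, fun h => hx0H ((H.mul_mem_cancel_left hxH).mp h)⟩
      · exact ⟨1, one_mem _, by rwa [mul_one]⟩
    obtain ⟨l, hl, hm⟩ := hcovG _ hxu
    exact ⟨u * l, mul_mem hu (hΛΛ1 hl), by rwa [← mul_assoc]⟩
  have hyΛ1 : y ∈ Λ1 := commutator_le_Lam _ hyc
  have hk : ∀ x : G, p ^ m ≤ (kq f x).relIndex Λ → p ^ (m + 1) ≤ (kq f x).relIndex Λ1 ∨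
      ∃ k ∈ kq f x ⊓ Λ1, φ k ∉ D0 := by
    intro x hx
    by_contra hcon
    push_neg at hcon
    obtain ⟨h1, h2⟩ := hcon
    set K' := kq f x
    have hle : K'.relIndex Λ ≤ K'.relIndex Λ1 :=
      Subgroup.relIndex_le_of_le_right hΛΛ1 Subgroup.index_ne_zero_of_finite
    have heq : K'.relIndex Λ1 = K'.relIndex Λ := by
      by_contra hne
      have := mul_relIndex_le_of_lt hG (lt_of_le_of_ne hle (Ne.symm hne))
      rw [pow_succ'] at h1
      exact absurd ((Nat.mul_le_mul_left p hx).trans this) (not_le.mpr h1)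
    set P := D0.comap φ ⊓ Λ1 with hP
    have hsub : K' ⊓ Λ1 ≤ P := fun k hk => ⟨h2 k hk, hk.2⟩
    have hmul := Subgroup.relIndex_mul_relIndex (K' ⊓ Λ1) P Λ1 hsub inf_le_right
    rw [Subgroup.inf_relIndex_right K' Λ1, heq] at hmul
    have hge : K'.relIndex Λ ≤ (K' ⊓ Λ1).relIndex P := by
      refine (Subgroup.relIndex_le_of_le_right (H := K') (le_inf (Subgroup.le_comap_map φ Λ) hΛΛ1)
        Subgroup.index_ne_zero_of_finite).trans (le_of_eq ?_)
      rw [← Subgroup.inf_relIndex_right (K' ⊓ Λ1), inf_assoc,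
        inf_eq_right.mpr (inf_le_right : P ≤ Λ1), Subgroup.inf_relIndex_right]
    have hpos' : 0 < K'.relIndex Λ := (pow_pos hpos m).trans_le hx
    have hone : P.relIndex Λ1 = 1 := by
      have h3 : P.relIndex Λ1 ≠ 0 := Subgroup.index_ne_zero_of_finite
      by_contra hne
      have h4 : 2 ≤ P.relIndex Λ1 := by omega
      nlinarith [Nat.mul_le_mul hge h4]
    exact hφv (Subgroup.relIndex_eq_one.mp hone (mem_Lam List.mem_cons_self)).1
  have hsplit : ∀ x : G, (cz x).relIndex Λ1 =
      Nat.card (comHom x (kq f x ⊓ Λ1) (hKc x Λ1)).range * (kq f x).relIndex Λ1 := fun x => by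
    rw [card_range_comHom]
    exact relIndex_split (cz_le_kq f x) Λ1
  have hKy1 : ∀ x : G, (kq f (x * y)).relIndex Λ1 = (kq f x).relIndex Λ1 := fun x => by rw [hKy]
  have hmono : ∀ x : G, (kq f x).relIndex Λ ≤ (kq f x).relIndex Λ1 := fun x =>
    Subgroup.relIndex_le_of_le_right hΛΛ1 Subgroup.index_ne_zero_of_finite
  have hmem : ∀ {x k : G}, k ∈ kq f x ⊓ Λ1 →
      ⁅x, k⁆ ∈ (comHom x (kq f x ⊓ Λ1) (hKc x Λ1)).range ∧
      φ k * ⁅x, k⁆ ∈ (comHom (x * y) (kq f (x * y) ⊓ Λ1) (hKc (x * y) Λ1)).range := fun {x k} hk =>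
    ⟨mem_range_comHom.mpr ⟨k, hk, rfl⟩,
      mem_range_comHom.mpr ⟨k, by rw [hKy]; exact hk, hshift x k⟩⟩
  have hgoalineq : ∀ T : ℕ, Nat.card D * T * p ^ b ≤
      Nat.card D0 * p ^ tri (b - m) * (cz v).index →
      Nat.card (commutator G) * T * p ^ (b * (v :: L).length) ≤
        p ^ tri b * ((v :: L).map fun u => (cz u).index).prod := by
    intro T hT
    rw [List.map_cons, List.prod_cons, List.length_cons,
      show b * (L.length + 1) = b + b * L.length by ring, pow_add, mul_left_comm _ (cz v).index,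
      hcardG]
    refine ineq_cons hA ?_
    calc Nat.card D * Nat.card (commutator Q) * T * p ^ b
        = Nat.card (commutator Q) * (Nat.card D * T * p ^ b) := by ring
      _ ≤ Nat.card (commutator Q) * (Nat.card D0 * p ^ tri (b - m) * (cz v).index) :=
        Nat.mul_le_mul_left _ hT
      _ = _ := by ring
  by_cases hEeq : E = D
  · -- one more step
    have hmb : m + 1 ≤ b := by
      refine (Nat.pow_le_pow_iff_right hp.out.one_lt).mp (le_trans ?_ (hb v))
      rw [hvidx, pow_succ]
      exact Nat.mul_le_mul hKidx hpR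
    haveI : Nontrivial G := ⟨⟨φ v, 1, hv1⟩⟩
    refine ⟨v :: L, m + 1, ⊥, bot_ne_top, fun l _ g => comm_mem_commutator l g,
      hgoalineq _ ?_, fun x _ => ?_⟩
    · have hDp : Nat.card D ≤ Nat.card D0 * p := by
        rw [← hEeq, hE]
        exact (card_sup_le (hD0D.trans hDc) _).trans (Nat.mul_le_mul_left _ (hcard v))
      rw [tri_sub_one hmb, hvidx, pow_add]
      calc Nat.card D * p ^ tri (b - (m + 1)) * p ^ b
          ≤ Nat.card D0 * p * p ^ tri (b - (m + 1)) * (p ^ (b - m) * p ^ m) := by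
            rw [← pow_add, show b - m + m = b by omega]
            exact Nat.mul_le_mul_right _ (Nat.mul_le_mul_right _ hDp)
        _ = Nat.card D0 * (p ^ tri (b - (m + 1)) * p ^ (b - m)) * (p ^ m * p) := by ring
        _ ≤ _ := Nat.mul_le_mul_left _ (Nat.mul_le_mul hKidx hpR)
    · obtain ⟨l, hl, hm⟩ := hmove x
      rcases hk _ hm with h | ⟨k, hk', hkD⟩
      · refine ⟨l, hl, h.trans ?_⟩
        rw [hsplit]
        exact Nat.le_mul_of_pos_left _ Nat.card_pos
      · have hm1 := hm.trans (hmono _)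
        by_cases hone : ⁅x * l, k⁆ = 1
        · refine ⟨l * y, mul_mem hl hyΛ1, ?_⟩
          rw [← mul_assoc, hsplit, hKy1, pow_succ']
          refine Nat.mul_le_mul (prime_le_card hG (hmem hk').2 ?_) hm1
          rw [hone, mul_one]
          exact fun h => hkD (h ▸ D0.one_mem)
        · refine ⟨l, hl, ?_⟩
          rw [hsplit, pow_succ']
          exact Nat.mul_le_mul (prime_le_card hG (hmem hk').1 hone) hm1
  · -- two more steps
    have hH' : E.comap φ ≠ ⊤ := fun he => hEeq (le_antisymm hED (by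
      rintro _ ⟨g, rfl⟩
      exact (he.symm ▸ Subgroup.mem_top g : g ∈ E.comap φ)))
    have hcov' : ∀ x ∉ E.comap φ, ∃ l ∈ Λ1, p ^ (m + 2) ≤ (cz (x * l)).relIndex Λ1 := by
      intro x hx
      obtain ⟨l, hl, hm⟩ := hmove x
      set x' := x * l with hx'
      set c := ⁅x', y⁆ with hc
      have hcE : c ∉ E := fun h => hx (by
        rw [hc, hcomy, inv_mem_iff, hx', map_mul] at h
        exact Subgroup.mem_comap.mpr
          ((E.mul_mem_cancel_right (hΛ1E (Subgroup.mem_map_of_mem φ hl))).mp h))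
      have hc1 : c ≠ 1 := fun h => hcE (h ▸ E.one_mem)
      have hcA : c ∈ (comHom x' (kq f x' ⊓ Λ1) (hKc x' Λ1)).range :=
        mem_range_comHom.mpr ⟨y, ⟨hy_kq x', hyΛ1⟩, rfl⟩
      rcases hk _ hm with h | ⟨k, hk', hkD⟩
      · refine ⟨l, hl, ?_⟩
        rw [hsplit, show m + 2 = (m + 1) + 1 by rfl, pow_succ']
        exact Nat.mul_le_mul (prime_le_card hG hcA hc1) h
      · have hm1 := hm.trans (hmono _)
        have hbig : ∀ {A : Subgroup G} {a : G}, c ∈ A → a ∈ A → a ∉ Subgroup.zpowers c →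
            p * p ≤ Nat.card A := by
          intro A a hcA' haA ha
          refine le_trans (Nat.mul_le_mul_left p
            (prime_le_card hG (Subgroup.mem_zpowers c) hc1)) (mul_card_le_of_lt hG ?_)
          exact lt_of_le_of_ne (Subgroup.zpowers_le.mpr hcA') fun he => ha (he.symm.le haA)
        have hpp : p ^ (m + 2) = p * p * p ^ m := by ring
        by_cases hak : ⁅x', k⁆ ∈ Subgroup.zpowers c
        · refine ⟨l * y, mul_mem hl hyΛ1, ?_⟩
          rw [← mul_assoc, hsplit, hKy1, hpp]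
          refine Nat.mul_le_mul (hbig ?_ (hmem hk').2 fun h => ?_) hm1
          · exact mem_range_comHom.mpr ⟨y, ⟨hy_kq _, hyΛ1⟩, by
              rw [hshift, phi_apply, commutatorElement_self, one_mul]⟩
          · have h1 : φ k ∈ Subgroup.zpowers c := (Subgroup.zpowers c).mul_mem_cancel_right hak |>.mp h
            have h2 : φ k ≠ 1 := fun he => hkD (he ▸ D0.one_mem)
            have h3 : Subgroup.zpowers (φ k) = Subgroup.zpowers c := by
              refine Subgroup.eq_of_le_of_card_ge (Subgroup.zpowers_le.mpr h1) ?_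
              refine le_trans ?_ (prime_le_card hG (Subgroup.mem_zpowers (φ k)) h2)
              rw [hc, hcomy, Subgroup.zpowers_inv]
              exact hcard x'
            exact hcE (Subgroup.zpowers_le.mpr (hΛ1E (Subgroup.mem_map_of_mem φ hk'.2))
              (h3 ▸ Subgroup.mem_zpowers c))
        · refine ⟨l, hl, ?_⟩
          rw [hsplit, hpp]
          exact Nat.mul_le_mul (hbig hcA (hmem hk').1 hak) hm1
    have hmb : m + 2 ≤ b := by
      obtain ⟨x, -, hx⟩ := SetLike.exists_of_lt hH'.lt_top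
      obtain ⟨l, -, hl⟩ := hcov' x hx
      exact le_of_gain hb hl
    refine ⟨v :: L, m + 2, E.comap φ, hH', fun l _ g => comm_mem_commutator l g,
      hgoalineq _ ?_, hcov'⟩
    rw [tri_sub_two hmb, hvidx, pow_add]
    refine Nat.le_of_mul_le_mul_right ?_ (pow_pos hpos (m + 1))
    calc Nat.card D * p ^ tri (b - (m + 2)) * p ^ b * p ^ (m + 1)
        = Nat.card D * p ^ (m + 1) * (p ^ tri (b - (m + 2)) * p ^ b) := by ring
      _ ≤ Nat.card D0 * Nat.card R * p ^ b * (p ^ tri (b - (m + 2)) * p ^ b) :=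
        Nat.mul_le_mul_right _ hDle
      _ = Nat.card D0 * p ^ tri (b - (m + 2)) * Nat.card R *
            (p ^ (2 * (b - m) - 1) * p ^ m * p ^ (m + 1)) := by
          rw [show p ^ (2 * (b - m) - 1) * p ^ m * p ^ (m + 1) = p ^ b * p ^ b by
            rw [← pow_add, ← pow_add, ← pow_add]; congr 1; omega]
          ring
      _ ≤ Nat.card D0 * p ^ tri (b - (m + 2)) * Nat.card R *
            (p ^ (2 * (b - m) - 1) * K.index * p ^ (m + 1)) :=
        Nat.mul_le_mul_left _ (Nat.mul_le_mul_right _ (Nat.mul_le_mul_left _ hKidx))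
      _ = _ := by ring

end CfsgLib.Breadth
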