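import Cfsg.Agent.Lib.Breadth.Basic

/-!
The induction invariant for the breadth theorem: a budgeted list of elements together with a lower
bound for centralizer indices inside the subgroup they generate with the derived subgroup.
-/

set_option autoImplicit false
set_option linter.unusedSectionVars false

namespace CfsgLib.Breadth

open scoped commutatorElement

/-- Triangular numbers. -/
def tri : ℕ → ℕ
  | 0 => 0
  | n + 1 => tri n + (n + 1)

theorem tri_eq (n : ℕ) : tri n = n * (n + 1) / 2 := by
  suffices h : 2 * tri n = n * (n + 1) by omega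
  induction n with
  | zero => rfl
  | succ n ih => simp only [tri]; linarith [ih]

theorem tri_sub_one {b m : ℕ} (h : m < b) : tri (b - m) = tri (b - (m + 1)) + (b - m) := by
  obtain ⟨k, rfl⟩ := Nat.exists_eq_add_of_lt h
  rw [show m + k + 1 - (m + 1) = k by omega, show m + k + 1 - m = k + 1 by omega]
  rfl

theorem tri_sub_two {b m : ℕ} (h : m + 2 ≤ b) :
    tri (b - m) = tri (b - (m + 2)) + (2 * (b - m) - 1) := by
  obtain ⟨k, rfl⟩ := Nat.exists_eq_add_of_le h
  rw [show m + 2 + k - (m + 2) = k by omega, show m + 2 + k - m = k + 1 + 1 by omega]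
  simp only [tri]
  omega

variable {G : Type*} [Group G]

/-- The subgroup generated by a list together with the derived subgroup. -/
def Lam (L : List G) : Subgroup G := Subgroup.closure {g | g ∈ L} ⊔ commutator G

theorem commutator_le_Lam (L : List G) : commutator G ≤ Lam L := le_sup_right

theorem mem_Lam {L : List G} {g : G} (h : g ∈ L) : g ∈ Lam L :=
  Subgroup.mem_sup_left (Subgroup.subset_closure h)

theorem Lam_le {L : List G} {S : Subgroup G} (h : ∀ g ∈ L, g ∈ S) (hc : commutator G ≤ S) :
    Lam L ≤ S := sup_le ((Subgroup.closure_le _).mpr h) hc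

theorem Lam_le_cons (v : G) (L : List G) : Lam L ≤ Lam (v :: L) :=
  Lam_le (fun _ hg => mem_Lam (List.mem_cons_of_mem _ hg)) (commutator_le_Lam _)

theorem Lam_cons (v : G) (L : List G) : Lam (v :: L) = Subgroup.zpowers v ⊔ Lam L := by
  refine le_antisymm (Lam_le (fun g hg => ?_) ((commutator_le_Lam L).trans le_sup_right))
    (sup_le (Subgroup.zpowers_le.mpr (mem_Lam List.mem_cons_self)) (Lam_le_cons v L))
  rcases List.mem_cons.mp hg with rfl | hg
  · exact Subgroup.mem_sup_left (Subgroup.mem_zpowers g)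
  · exact Subgroup.mem_sup_right (mem_Lam hg)

instance Lam_normal (L : List G) : (Lam L).Normal := by
  refine ⟨fun a ha g => ?_⟩
  have h : g * a * g⁻¹ = ⁅g, a⁆ * a := by simp [commutatorElement_def]
  rw [h]
  exact mul_mem (commutator_le_Lam L (Subgroup.commutator_mem_commutator (Subgroup.mem_top _)
    (Subgroup.mem_top _))) ha

/-- The invariant for a subgroup `N` of the derived subgroup. -/
def StateOn (p b : ℕ) (N : Subgroup G) : Prop :=
  ∃ (L : List G) (m : ℕ) (H : Subgroup G), H ≠ ⊤ ∧ (∀ l ∈ L, ∀ g : G, ⁅l, g⁆ ∈ N) ∧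
    Nat.card N * p ^ tri (b - m) * p ^ (b * L.length) ≤
      p ^ tri b * (L.map fun v => (cz v).index).prod ∧
    ∀ x ∉ H, ∃ l ∈ Lam L, p ^ m ≤ (cz (x * l)).relIndex (Lam L)

variable [Finite G] {p b : ℕ} [hp : Fact p.Prime]

theorem le_of_gain (hb : ∀ v : G, (cz v).index ≤ p ^ b) {v : G} {S : Subgroup G} {m : ℕ}
    (h : p ^ m ≤ (cz v).relIndex S) : m ≤ b :=
  (Nat.pow_le_pow_iff_right hp.out.one_lt).mp ((h.trans (relIndex_le_index _ _)).trans (hb v))

theorem bound_of_state (hb : ∀ v : G, (cz v).index ≤ p ^ b) {N : Subgroup G}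
    (h : StateOn p b N) : Nat.card N ≤ p ^ tri b := by
  obtain ⟨L, m, H, -, -, hineq, -⟩ := h
  have h1 : (L.map fun v => (cz v).index).prod ≤ p ^ (b * L.length) := by
    rw [pow_mul]
    refine le_trans (List.prod_le_pow_card _ (p ^ b) fun x hx => ?_) (by rw [List.length_map])
    obtain ⟨v, -, rfl⟩ := List.mem_map.mp hx
    exact hb v
  refine Nat.le_of_mul_le_mul_right ?_ (pow_pos hp.out.pos (b * L.length))
  calc Nat.card N * p ^ (b * L.length)
      ≤ Nat.card N * p ^ tri (b - m) * p ^ (b * L.length) :=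
        Nat.mul_le_mul_right _ (Nat.le_mul_of_pos_right _ (pow_pos hp.out.pos _))
    _ ≤ p ^ tri b * (L.map fun v => (cz v).index).prod := hineq
    _ ≤ p ^ tri b * p ^ (b * L.length) := Nat.mul_le_mul_left _ h1

theorem ineq_cons {A A' T T' P E q k : ℕ} (hA : A * T * q ≤ P)
    (h : A' * T' * k ≤ A * T * E) : A' * T' * (k * q) ≤ E * P :=
  calc A' * T' * (k * q) = A' * T' * k * q := by ring
    _ ≤ A * T * E * q := Nat.mul_le_mul_right _ h
    _ = E * (A * T * q) := by ring
    _ ≤ E * P := Nat.mul_le_mul_left _ hA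

end CfsgLib.Breadth
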